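import Groth.Agent.PlaneCurve.NodeNormal.NodalBase
import Mathlib

/-!
# Normal forms of nodal families over a discrete valuation ring: the ring theory
-/

set_option autoImplicit false

universe u

open MvPolynomial IsLocalRing Groth.PlaneCurve.NodeNormal

namespace Groth.ModelsGraphs.NodalDVR

/-- Cancellation: if `B` is generated over `A` by the inverse of `f` and `g ∘ φ` is étale then so
is `g`. -/
theorem etale_of_generated {A B C : Type u} [CommRing A] [CommRing B] [CommRing C] (f : A)
    (φ : A →+* B) (ψ : Localization.Away f →+* B) (hψ : ψ.comp (algebraMap A _) = φ)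
    (hsurj : Function.Surjective ψ) (g : B →+* C) (h : (g.comp φ).Etale) : g.Etale := by
  algebraize [φ, g, ψ, g.comp φ]
  have : IsScalarTower A B C := IsScalarTower.of_algebraMap_eq' rfl
  have : IsScalarTower A (Localization.Away f) B := IsScalarTower.of_algebraMap_eq' hψ.symm
  have : Algebra.FormallyUnramified A (Localization.Away f) :=
    Algebra.FormallyUnramified.of_isLocalization (Submonoid.powers f)
  have : Algebra.FormallyUnramified A B :=
    Algebra.FormallyUnramified.of_surjective (IsScalarTower.toAlgHom A (Localization.Away f) B) hsurj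
  have hFE : Algebra.FormallyEtale B C := Algebra.FormallyEtale.of_restrictScalars (R := A)
  have : Algebra.FiniteType A (Localization.Away f) := IsLocalization.finiteType_of_monoid_fg (Submonoid.powers f) _
  have : Algebra.FiniteType A B := Algebra.FiniteType.of_surjective
    (IsScalarTower.toAlgHom A (Localization.Away f) B) hsurj
  have hFP : Algebra.FinitePresentation B C :=
    Algebra.FinitePresentation.of_restrict_scalars_finitePresentation A B C
  exact ⟨hFE, hFP⟩

/-- A Noetherian local ring whose maximal ideal is generated by a non-zero-divisor is a discrete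
valuation ring. -/
theorem isDVR_of_maximalIdeal_eq {R : Type u} [CommRing R] [IsLocalRing R] [IsNoetherianRing R]
    (t : R) (ht : maximalIdeal R = Ideal.span {t}) (hnzd : ∀ y, t * y = 0 → y = 0) :
    ∃ (_ : IsDomain R), IsDiscreteValuationRing R ∧ Irreducible t := by
  have hpow : ∀ (n : ℕ) (y : R), t ^ n * y = 0 → y = 0 := by
    intro n
    induction n with
    | zero => intro y hy; rwa [pow_zero, one_mul] at hy
    | succ n ih => exact fun y hy => hnzd y (ih _ (by rw [← mul_assoc, ← pow_succ]; exact hy))
  have hfac : ∀ x : R, x ≠ 0 → ∃ (n : ℕ) (v : Rˣ), x = v * t ^ n := by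
    classical
    intro x hx
    have : ∃ n, x ∉ maximalIdeal R ^ n := by
      by_contra hc
      push Not at hc
      exact hx ((Ideal.mem_bot (R := R)).1 (Ideal.iInf_pow_eq_bot_of_isLocalRing (maximalIdeal R)
        (maximalIdeal.isMaximal R).ne_top ▸ Ideal.mem_iInf.2 hc))
    obtain ⟨n, hn, hmin⟩ : ∃ n, x ∉ maximalIdeal R ^ n ∧ ∀ m < n, x ∈ maximalIdeal R ^ m :=
      ⟨Nat.find this, Nat.find_spec this, fun m hm => not_not.1 (Nat.find_min this hm)⟩
    cases n with
    | zero => exact absurd (by simp) hn
    | succ n =>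
      have hx' := hmin n n.lt_succ_self
      rw [ht, Ideal.span_singleton_pow, Ideal.mem_span_singleton'] at hx'
      obtain ⟨v, rfl⟩ := hx'
      have hv : IsUnit v := by
        by_contra hv
        refine hn ?_
        rw [ht, Ideal.span_singleton_pow, Ideal.mem_span_singleton']
        obtain ⟨w, rfl⟩ := Ideal.mem_span_singleton'.1 (ht ▸ (mem_maximalIdeal v).2 hv)
        exact ⟨w, by ring⟩
      exact ⟨n, hv.unit, rfl⟩
  have : IsDomain R := by
    have : NoZeroDivisors R := ⟨fun {x y} hxy => by
      by_contra hc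
      push Not at hc
      obtain ⟨n, v, rfl⟩ := hfac x hc.1
      obtain ⟨m, w, rfl⟩ := hfac y hc.2
      have h0 : t ^ (n + m) * ((v : R) * w) = 0 := by rw [← hxy]; ring
      exact (v.isUnit.mul w.isUnit).ne_zero (hpow _ _ h0)⟩
    exact NoZeroDivisors.to_isDomain R
  have ht0 : t ≠ 0 := fun h => one_ne_zero (hnzd 1 (by rw [h, zero_mul]))
  have hirr : Irreducible t := by
    have hp : Prime t := (Ideal.span_singleton_prime ht0).1 (ht ▸ (maximalIdeal.isMaximal R).isPrime)
    exact hp.irreducible
  refine ⟨this, IsDiscreteValuationRing.ofHasUnitMulPowIrreducibleFactorization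
    ⟨t, hirr, fun {x} hx => ?_⟩, hirr⟩
  obtain ⟨n, v, rfl⟩ := hfac x hx
  exact ⟨n, v, mul_comm _ _⟩

/-- In a ring with finite spectrum a local ring at a prime is a localization at one element. -/
theorem exists_away_unique_max {A : Type u} [CommRing A] [Finite (PrimeSpectrum A)] (q : Ideal A)
    [q.IsPrime] : ∃ f, f ∉ q ∧ ∀ p : Ideal A, p.IsPrime → f ∉ p → p ≤ q := by
  classical
  have := Fintype.ofFinite (PrimeSpectrum A)
  have hch : ∀ p : PrimeSpectrum A, ∃ g, g ∉ q ∧ (¬ p.asIdeal ≤ q → g ∈ p.asIdeal) := fun p => by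
    by_cases h : p.asIdeal ≤ q
    · exact ⟨1, fun h1 => ‹q.IsPrime›.ne_top ((Ideal.eq_top_iff_one q).2 h1), fun h' => absurd h h'⟩
    · obtain ⟨g, hg, hg'⟩ := SetLike.not_le_iff_exists.1 h
      exact ⟨g, hg', fun _ => hg⟩
  choose g hg hg' using hch
  refine ⟨∏ p, g p, fun h => ?_, fun p hp hf => ?_⟩
  · obtain ⟨p, -, hp⟩ := ‹q.IsPrime›.prod_mem_iff.1 h
    exact hg p hp
  · by_contra hle
    exact hf (Ideal.mem_of_dvd _ (Finset.dvd_prod_of_mem g (Finset.mem_univ ⟨p, hp⟩)) (hg' ⟨p, hp⟩ hle))

/-- A prime over the closed point of an étale algebra over a discrete valuation ring has, after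
one localization, a discrete valuation ring, étale over the base. -/
theorem exists_away_dvr {R A : Type u} [CommRing R] [IsDomain R] [IsDiscreteValuationRing R]
    [CommRing A] [Algebra R A] [Algebra.Etale R A] (ϖ : R) (hϖ : Irreducible ϖ) (q : Ideal A)
    [q.IsPrime] (hq : maximalIdeal R ≤ q.comap (algebraMap R A)) :
    ∃ f, f ∉ q ∧ ∃ (_ : IsDomain (Localization.Away f)),
      IsDiscreteValuationRing (Localization.Away f) ∧ Algebra.Etale R (Localization.Away f) ∧
        Irreducible (algebraMap R (Localization.Away f) ϖ) := by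
  classical
  have : Finite (PrimeSpectrum A) := by
    have hfin : (Set.univ : Set (PrimeSpectrum R)).Finite := by
      refine Set.Finite.subset (Set.toFinite ({⟨⊥, Ideal.isPrime_bot⟩, closedPoint R} : Set _)) ?_
      intro p _
      by_cases h : p.asIdeal = ⊥
      · exact Or.inl (PrimeSpectrum.ext h)
      · refine Or.inr (PrimeSpectrum.ext ?_)
        exact eq_maximalIdeal (p.isPrime.isMaximal h)
    exact Set.finite_univ_iff.1 (Algebra.QuasiFinite.finite_comap_preimage (S := A) hfin)
  obtain ⟨f, hf, hle⟩ := exists_away_unique_max q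
  let A' := Localization.Away f
  have hdisj : Disjoint (Submonoid.powers f : Set A) q := Set.disjoint_left.2 fun x hx hx' => by
    obtain ⟨n, rfl⟩ := hx
    exact hf (‹q.IsPrime›.mem_of_pow_mem n hx')
  have : IsLocalRing A' := by
    refine IsLocalRing.of_unique_max_ideal ⟨q.map (algebraMap A A'), ?_, fun P hP => ?_⟩
    · obtain ⟨M, hM, hMle⟩ := Ideal.exists_le_maximal (q.map (algebraMap A A'))
        (IsLocalization.isPrime_of_isPrime_disjoint (Submonoid.powers f) A' q ‹_› hdisj).ne_top
      suffices M = q.map (algebraMap A A') from this ▸ hM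
      refine le_antisymm ?_ hMle
      rw [← IsLocalization.map_comap (Submonoid.powers f) A' M]
      refine Ideal.map_mono (hle _ (hM.isPrime.comap _) fun h => ?_)
      exact hM.ne_top (Ideal.eq_top_of_isUnit_mem _ h (IsLocalization.Away.algebraMap_isUnit f))
    · refine hP.eq_of_le (IsLocalization.isPrime_of_isPrime_disjoint (Submonoid.powers f) A' q ‹_›
        hdisj).ne_top ?_
      rw [← IsLocalization.map_comap (Submonoid.powers f) A' P]
      refine Ideal.map_mono (hle _ (hP.isPrime.comap _) fun h => ?_)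
      exact hP.ne_top (Ideal.eq_top_of_isUnit_mem _ h (IsLocalization.Away.algebraMap_isUnit f))
  have : Algebra.Etale A A' := Algebra.Etale.of_isLocalizationAway f
  have hEt : Algebra.Etale R A' := Algebra.Etale.comp R A A'
  have hqA : q.map (algebraMap A A') ≤ maximalIdeal A' := IsLocalRing.le_maximalIdeal
    (IsLocalization.isPrime_of_isPrime_disjoint (Submonoid.powers f) A' q ‹_› hdisj).ne_top
  have hloc : IsLocalHom (algebraMap R A') := by
    refine ((IsLocalRing.local_hom_TFAE _).out 0 2).2 ?_
    refine le_trans ?_ hqA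
    rw [IsScalarTower.algebraMap_eq R A A', ← Ideal.map_map]
    exact Ideal.map_mono (Ideal.map_le_iff_le_comap.2 hq)
  have hmax : maximalIdeal A' = Ideal.span {algebraMap R A' ϖ} := by
    have h := Algebra.FormallyUnramified.map_maximalIdeal (R := R) (S := A')
    rw [← h, hϖ.maximalIdeal_eq, Ideal.map_span, Set.image_singleton]
  have : IsNoetherianRing A' := Algebra.FiniteType.isNoetherianRing R A'
  have hnzd : ∀ y, algebraMap R A' ϖ * y = 0 → y = 0 := fun y hy => by
    have hreg : IsSMulRegular A' ϖ := Module.Flat.isSMulRegular_of_nonZeroDivisors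
      (mem_nonZeroDivisors_of_ne_zero hϖ.ne_zero)
    exact hreg (show ϖ • y = ϖ • (0 : A') by rw [Algebra.smul_def, hy, smul_zero])
  obtain ⟨hd, hdvr, hirr⟩ := isDVR_of_maximalIdeal_eq _ hmax hnzd
  exact ⟨f, hf, hd, hdvr, hEt, hirr⟩

/-- The target of the normal form. -/
abbrev NF {R : Type u} [CommRing R] (h : MvPolynomial (Fin 2) R) : Type u :=
  MvPolynomial (Fin 2) R ⧸ Ideal.span {(X 0 * X 1 - h : MvPolynomial (Fin 2) R)}

/-- From a standard smooth algebra of relative dimension one to the normal form `u v = 1`. -/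
theorem exists_smooth_form {R S : Type u} [CommRing R] [CommRing S] (φ : R →+* S)
    (hφ : φ.IsStandardSmoothOfRelativeDimension 1) (P : Ideal S) [P.IsPrime] :
    ∃ t, t ∉ P ∧ ∃ g : NF (1 : MvPolynomial (Fin 2) R) →+* Localization.Away t,
      g.Etale ∧ g.comp ((Ideal.Quotient.mk _).comp C) = (algebraMap S _).comp φ := by
  obtain ⟨g0, hg0, het⟩ := hφ.exists_etale_mvPolynomial
  obtain ⟨c, hc⟩ : ∃ c : R, g0 (X 0) + φ c ∉ P := by
    by_cases h : g0 (X 0) ∈ P
    · refine ⟨1, fun h1 => ‹P.IsPrime›.ne_top ((Ideal.eq_top_iff_one P).2 ?_)⟩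
      simpa using P.sub_mem h1 h
    · exact ⟨0, by simpa using h⟩
  set t := g0 (X 0) + φ c
  let T := Localization.Away t
  have hu : IsUnit (algebraMap S T t) := IsLocalization.Away.algebraMap_isUnit t
  let g : NF (1 : MvPolynomial (Fin 2) R) →+* T :=
    Ideal.Quotient.lift _ (eval₂Hom ((algebraMap S T).comp φ) ![algebraMap S T t, ↑hu.unit⁻¹])
      fun x hx => by
        obtain ⟨y, rfl⟩ := Ideal.mem_span_singleton'.1 hx
        rw [map_mul]
        refine mul_eq_zero_of_right _ ?_
        simp [IsUnit.mul_val_inv]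
  let mk := Ideal.Quotient.mk (Ideal.span {(X 0 * X 1 - 1 : MvPolynomial (Fin 2) R)})
  let φ1 : MvPolynomial (Fin 1) R →+* NF (1 : MvPolynomial (Fin 2) R) :=
    eval₂Hom (mk.comp C) fun _ => mk (X 0) - mk (C c)
  have hrel : mk (X 0) * mk (X 1) = 1 := by
    rw [← map_mul, ← map_one mk, Ideal.Quotient.eq]
    exact Ideal.subset_span rfl
  have hX : φ1 (X 0 + C c) = mk (X 0) := by simp [φ1]
  have hun : IsUnit (φ1 (X 0 + C c)) := hX ▸ IsUnit.of_mul_eq_one _ hrel
  let ψ := IsLocalization.Away.lift (S := Localization.Away (X 0 + C c : MvPolynomial (Fin 1) R))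
    (X 0 + C c) hun
  have hψ : ψ.comp (algebraMap _ _) = φ1 := IsLocalization.Away.lift_comp _ _
  have hψ' : ∀ y, ψ (algebraMap _ _ y) = φ1 y := fun y => RingHom.congr_fun hψ y
  refine ⟨t, hc, g, etale_of_generated (X 0 + C c : MvPolynomial (Fin 1) R) φ1 ψ hψ (fun y => ?_) g ?_, ?_⟩
  · obtain ⟨y, rfl⟩ := Ideal.Quotient.mk_surjective y
    change mk y ∈ ψ.range
    induction y using MvPolynomial.induction_on with
    | C r => exact ⟨algebraMap (MvPolynomial (Fin 1) R) _ (C r), by rw [hψ']; simp [φ1]⟩
    | add p q hp hq => rw [map_add]; exact add_mem hp hq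
    | mul_X p i hp =>
      rw [map_mul]
      refine mul_mem hp ?_
      fin_cases i
      · exact ⟨_, (hψ' _).trans hX⟩
      · refine ⟨IsLocalization.Away.invSelf (X 0 + C c : MvPolynomial (Fin 1) R), ?_⟩
        have h1 : ψ (algebraMap (MvPolynomial (Fin 1) R) _ (X 0 + C c)) * ψ (IsLocalization.Away.invSelf (X 0 + C c : MvPolynomial (Fin 1) R)) = 1 := by
          rw [← map_mul, IsLocalization.Away.mul_invSelf, map_one]
        rw [hψ', hX] at h1
        exact (IsUnit.of_mul_eq_one _ hrel).mul_left_cancel (h1.trans hrel.symm)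
  · have : (algebraMap S T).Etale := by
      have : Algebra.Etale S T := Algebra.Etale.of_isLocalizationAway t
      exact RingHom.etale_algebraMap.2 this
    convert RingHom.Etale.stableUnderComposition g0 (algebraMap S T) het this using 1
    refine MvPolynomial.ringHom_ext (fun r => ?_) fun i => ?_
    · simp [φ1, g, mk, ← hg0]
    · fin_cases i
      simp [φ1, g, mk, t]
  · exact RingHom.ext fun r => by simp [g]; rfl

/-- From the nodal ring to the normal form over a localization of the parameters. -/
theorem exists_node_form {A X' : Type u} [CommRing A] [CommRing X'] (a : A)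
    (e : NodalRing a →+* X') (he : e.Etale) (f : A) (lam : (Localization.Away f)ˣ)
    (h : MvPolynomial (Fin 2) (Localization.Away f)) (h0 : Localization.Away f)
    (hh : h = C h0) (hrel : (lam : Localization.Away f) * h0 + algebraMap A _ a = 0) :
    ∃ g : NF h →+* Localization.Away (e (algebraMap A (NodalRing a) f)),
      g.Etale ∧ ∀ r : A, g (Ideal.Quotient.mk _ (C (algebraMap A (Localization.Away f) r))) =
        algebraMap X' _ (e (algebraMap A (NodalRing a) r)) := by
  set f' := algebraMap A (NodalRing a) f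
  let T := Localization.Away (e f')
  let ι : Localization.Away f →+* T := IsLocalization.Away.lift (S := Localization.Away f) f
    (g := ((algebraMap X' T).comp e).comp (algebraMap A (NodalRing a)))
    (IsLocalization.Away.algebraMap_isUnit (e f'))
  have hι : ∀ r, ι (algebraMap A _ r) = algebraMap X' T (e (algebraMap A (NodalRing a) r)) :=
    fun r => IsLocalization.Away.lift_eq _ _ r
  let mk0 := Ideal.Quotient.mk (Ideal.span {(X 0 * X 1 + C a : MvPolynomial (Fin 2) A)})
  let mk := Ideal.Quotient.mk (Ideal.span {(X 0 * X 1 - h : MvPolynomial (Fin 2) (Localization.Away f))})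
  have hrel0 : mk0 (X 0) * mk0 (X 1) + algebraMap A (NodalRing a) a = 0 := by
    show mk0 (X 0) * mk0 (X 1) + mk0 (C a) = 0
    rw [← map_mul, ← map_add, Ideal.Quotient.eq_zero_iff_mem]
    exact Ideal.subset_span rfl
  let g : NF h →+* T := Ideal.Quotient.lift _ (eval₂Hom ι
      ![ι (↑lam⁻¹) * algebraMap X' T (e (mk0 (X 0))), algebraMap X' T (e (mk0 (X 1)))])
    fun x hx => by
      obtain ⟨y, rfl⟩ := Ideal.mem_span_singleton'.1 hx
      rw [map_mul]
      refine mul_eq_zero_of_right _ ?_
      subst hh
      simp only [map_sub, map_mul, coe_eval₂Hom, eval₂_X, eval₂_C, Matrix.cons_val_zero, Matrix.cons_val_one]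
      have h1 := congrArg (fun z => algebraMap X' T (e z)) hrel0
      simp only [map_add, map_mul, map_zero, ← hι] at h1
      have h2 : h0 = - (↑lam⁻¹ * algebraMap A (Localization.Away f) a) := by
        linear_combination (↑lam⁻¹ : Localization.Away f) * hrel - h0 * lam.inv_mul
      rw [h2, map_neg, map_mul]
      linear_combination ι ↑lam⁻¹ * h1
  have hmk : mk (X 0) * mk (X 1) = mk (C h0) := by
    rw [← map_mul, ← hh, Ideal.Quotient.eq]
    exact Ideal.subset_span rfl
  let χ : NodalRing a →+* NF h := Ideal.Quotient.lift _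
    (eval₂Hom (mk.comp (C.comp (algebraMap A _))) ![mk (C (lam : Localization.Away f)) * mk (X 0), mk (X 1)])
    fun x hx => by
      obtain ⟨y, rfl⟩ := Ideal.mem_span_singleton'.1 hx
      rw [map_mul]
      refine mul_eq_zero_of_right _ ?_
      simp only [map_add, map_mul, coe_eval₂Hom, eval₂_X, eval₂_C, Matrix.cons_val_zero, Matrix.cons_val_one,
        RingHom.comp_apply]
      rw [mul_assoc, hmk, ← map_mul, ← map_mul, ← map_add, ← map_add, hrel, map_zero, map_zero]
  have hχC : ∀ r, χ (algebraMap A (NodalRing a) r) = mk (C (algebraMap A _ r)) := fun r => by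
    show χ (mk0 (C r)) = _
    simp [χ, mk0]
  have hun : IsUnit (χ f') := by
    rw [hχC]
    exact ((IsLocalization.Away.algebraMap_isUnit f).map C).map mk
  let ψ := IsLocalization.Away.lift (S := Localization.Away f') f' hun
  have hψ : ψ.comp (algebraMap _ _) = χ := IsLocalization.Away.lift_comp _ _
  have hψ' : ∀ y, ψ (algebraMap _ _ y) = χ y := fun y => RingHom.congr_fun hψ y
  have hC : ∀ r : Localization.Away f, mk (C r) ∈ ψ.range := fun r => by
    obtain ⟨n, r0, hr⟩ := IsLocalization.Away.surj (S := Localization.Away f) f r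
    refine ⟨algebraMap _ _ (algebraMap A (NodalRing a) r0) *
      (IsLocalization.Away.invSelf f' : Localization.Away f') ^ n, ?_⟩
    refine ((hun.pow n).mul_left_inj).1 ?_
    rw [map_mul, mul_assoc, map_pow, ← mul_pow, ← hψ' f', ← map_mul, mul_comm (IsLocalization.Away.invSelf f'),
      IsLocalization.Away.mul_invSelf, map_one, one_pow, mul_one, hψ', hψ', hχC, hχC, ← map_pow, ← map_pow,
      ← map_mul, ← map_mul, hr]
  refine ⟨g, etale_of_generated f' χ ψ hψ (fun y => ?_) g ?_, fun r => by simp [g, hι]; rfl⟩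
  · obtain ⟨y, rfl⟩ := Ideal.Quotient.mk_surjective y
    change mk y ∈ ψ.range
    induction y using MvPolynomial.induction_on with
    | C r => exact hC r
    | add p q hp hq => rw [map_add]; exact add_mem hp hq
    | mul_X p i hp =>
      rw [map_mul]
      refine mul_mem hp ?_
      fin_cases i
      · have h1 : mk (X 0) = mk (C (↑lam⁻¹)) * χ (mk0 (X 0)) := by
          simp only [χ, mk0, Ideal.Quotient.lift_mk, coe_eval₂Hom, eval₂_X, Matrix.cons_val_zero]
          rw [← mul_assoc, ← map_mul, ← C_mul, Units.inv_mul, C_1, map_one, one_mul]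
        show mk (X 0) ∈ ψ.range
        rw [h1]
        exact mul_mem (hC _) ⟨_, hψ' _⟩
      · refine ⟨algebraMap _ _ (mk0 (X 1)), (hψ' _).trans ?_⟩
        simp [χ, mk0, mk]
  · have : (algebraMap X' T).Etale := by
      have : Algebra.Etale X' T := Algebra.Etale.of_isLocalizationAway (e f')
      exact RingHom.etale_algebraMap.2 this
    convert RingHom.Etale.stableUnderComposition e (algebraMap X' T) he this using 1
    refine Ideal.Quotient.ringHom_ext (MvPolynomial.ringHom_ext (fun r => ?_) fun i => ?_)
    · simp only [RingHom.comp_apply]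
      show g (χ (algebraMap A (NodalRing a) r)) = algebraMap X' T (e (algebraMap A (NodalRing a) r))
      rw [hχC]
      simp [g, mk, hι]
    · fin_cases i
      · show g (χ (mk0 (X 0))) = algebraMap X' T (e (mk0 (X 0)))
        simp only [g, χ, mk, mk0, Ideal.Quotient.lift_mk, coe_eval₂Hom, eval₂_X, Matrix.cons_val_zero,
          map_mul, eval₂_C]
        rw [← mul_assoc, ← map_mul, Units.mul_inv, map_one, one_mul]
      · show g (χ (mk0 (X 1))) = algebraMap X' T (e (mk0 (X 1)))
        simp [g, χ, mk, mk0]

/-- The parameter of a nodal family over a discrete valuation ring is zero or a unit times a power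
of the uniformizer. -/
theorem exists_normal_parameter {R : Type u} [CommRing R] [IsDomain R] [IsDiscreteValuationRing R]
    (t : R) (ht : Irreducible t) (a : R) :
    ∃ (lam : Rˣ) (h0 : R), (h0 = 0 ∨ ∃ n : ℕ, h0 = t ^ n) ∧ (lam : R) * h0 + a = 0 := by
  by_cases ha : a = 0
  · exact ⟨1, 0, Or.inl rfl, by simp [ha]⟩
  · obtain ⟨n, v, rfl⟩ := IsDiscreteValuationRing.eq_unit_mul_pow_irreducible ha ht
    exact ⟨-v, t ^ n, Or.inr ⟨n, rfl⟩, by simp⟩

end Groth.ModelsGraphs.NodalDVR
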